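import Groth.Agent.ZH85.SurfProd.Basic

/-!
# The pairing on a product of two curves
-/

set_option autoImplicit false
set_option backward.isDefEq.respectTransparency false
set_option backward.isDefEq.respectTransparency.types false
set_option linter.style.haveILetI false
set_option linter.unusedSectionVars false
attribute [-instance] CategoryTheory.catToReflQuiver

universe u

open CategoryTheory CategoryTheory.Limits AlgebraicGeometry TopologicalSpace

noncomputable section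

namespace Groth.Agent.ZH85.SurfProd

open Groth.Agent

/-- The ideal of a point given by a closed immersion of a field. -/
theorem ker_eq_vanishing {k : Type u} [Field k] {C : Scheme.{u}} (x : Spec (CommRingCat.of k) ⟶ C)
    [IsClosedImmersion x] (hx : IsClosed ({x (IsLocalRing.closedPoint k)} : Set C)) :
    x.ker = Scheme.IdealSheafData.vanishingIdeal ⟨{x (IsLocalRing.closedPoint k)}, hx⟩ := by
  haveI : IsReduced x.ker.subscheme := isReduced_of_isOpenImmersion (SurfInt.kerIso x).inv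
  have h : x.ker = Scheme.IdealSheafData.vanishingIdeal x.ker.support := by
    rw [Scheme.IdealSheafData.vanishingIdeal_support]
    refine le_antisymm x.ker.le_radical fun W s hs => ?_
    rw [Scheme.IdealSheafData.radical_ideal] at hs
    obtain ⟨n, hn⟩ := hs
    rw [← x.ker.ker_subschemeι_app W, RingHom.mem_ker] at hn ⊢
    rw [map_pow] at hn
    exact IsReduced.eq_zero _ ⟨n, hn⟩
  refine h.trans (congrArg _ ?_)
  ext1
  rw [Scheme.Hom.support_ker, x.isClosedEmbedding.isClosed_range.closure_eq]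
  exact Set.range_eq_singleton_iff.2 fun z => congrArg x (Subsingleton.elim z _)

/-- The two fibre classes of a product of curves, and the inequalities of Castelnuovo–Severi type. -/
theorem product_ineq (k : Type u) [Field k]
    [IsAlgClosed k] (C₁ C₂ : Scheme.{u}) [C₁.Over (Spec (CommRingCat.of k))]
    [C₂.Over (Spec (CommRingCat.of k))]
    (h₁ : Curve.IsSmoothProperCurve k C₁ (C₁ ↘ Spec (CommRingCat.of k)))
    (h₂ : Curve.IsSmoothProperCurve k C₂ (C₂ ↘ Spec (CommRingCat.of k)))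
    (x : Spec (CommRingCat.of k) ⟶ C₁) (hx : x ≫ (C₁ ↘ Spec (CommRingCat.of k)) = 𝟙 _)
    (y : Spec (CommRingCat.of k) ⟶ C₂) (hy : y ≫ (C₂ ↘ Spec (CommRingCat.of k)) = 𝟙 _)
    (i₁ : C₁ ⟶ pullback (C₁ ↘ Spec (CommRingCat.of k)) (C₂ ↘ Spec (CommRingCat.of k)))
    (hi₁ : i₁ ≫ pullback.fst _ _ = 𝟙 C₁ ∧ i₁ ≫ pullback.snd _ _ = (C₁ ↘ Spec (CommRingCat.of k)) ≫ y)
    (i₂ : C₂ ⟶ pullback (C₁ ↘ Spec (CommRingCat.of k)) (C₂ ↘ Spec (CommRingCat.of k)))
    (hi₂ : i₂ ≫ pullback.snd _ _ = 𝟙 C₂ ∧ i₂ ≫ pullback.fst _ _ = (C₂ ↘ Spec (CommRingCat.of k)) ≫ x)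
    (L M L' M' : (pullback (C₁ ↘ Spec (CommRingCat.of k)) (C₂ ↘ Spec (CommRingCat.of k))).Modules)
    (hL : PicF.IsInvertible L) (hM : Nonempty (CohB1.tensorMod L M ≅ Coh.structureModule _))
    (hL' : PicF.IsInvertible L') (hM' : Nonempty (CohB1.tensorMod L' M' ≅ Coh.structureModule _)) :
    letI : (pullback (C₁ ↘ Spec (CommRingCat.of k)) (C₂ ↘ Spec (CommRingCat.of k))).Over
        (Spec (CommRingCat.of k)) := ⟨pullback.fst _ _ ≫ (C₁ ↘ Spec (CommRingCat.of k))⟩
    FGA.intNum k (pullback (C₁ ↘ Spec (CommRingCat.of k)) (C₂ ↘ Spec (CommRingCat.of k))) 2 ![M, M]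
        (Coh.structureModule _) ≤
      2 * Curv2.deg k C₁ ((Scheme.Modules.pullback i₁).obj L) 1 *
        Curv2.deg k C₂ ((Scheme.Modules.pullback i₂).obj L) 1 ∧
    (FGA.intNum k (pullback (C₁ ↘ Spec (CommRingCat.of k)) (C₂ ↘ Spec (CommRingCat.of k))) 2 ![M, M'] (Coh.structureModule _)
        - Curv2.deg k C₁ ((Scheme.Modules.pullback i₁).obj L) 1
            * Curv2.deg k C₂ ((Scheme.Modules.pullback i₂).obj L') 1
        - Curv2.deg k C₂ ((Scheme.Modules.pullback i₂).obj L) 1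
            * Curv2.deg k C₁ ((Scheme.Modules.pullback i₁).obj L') 1) ^ 2 ≤
      (2 * Curv2.deg k C₁ ((Scheme.Modules.pullback i₁).obj L) 1
            * Curv2.deg k C₂ ((Scheme.Modules.pullback i₂).obj L) 1
          - FGA.intNum k (pullback (C₁ ↘ Spec (CommRingCat.of k)) (C₂ ↘ Spec (CommRingCat.of k))) 2 ![M, M] (Coh.structureModule _))
        * (2 * Curv2.deg k C₁ ((Scheme.Modules.pullback i₁).obj L') 1
            * Curv2.deg k C₂ ((Scheme.Modules.pullback i₂).obj L') 1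
          - FGA.intNum k (pullback (C₁ ↘ Spec (CommRingCat.of k)) (C₂ ↘ Spec (CommRingCat.of k))) 2 ![M', M'] (Coh.structureModule _)) := by
  obtain ⟨hp1, hs1, hI1, hd1⟩ := h₁
  obtain ⟨hp2, hs2, hI2, hd2⟩ := h₂
  haveI : IsIntegral (pullback (C₁ ↘ Spec (CommRingCat.of k)) (C₂ ↘ Spec (CommRingCat.of k))) := S1582.result k C₁ C₂ (C₁ ↘ Spec (CommRingCat.of k)) (C₂ ↘ Spec (CommRingCat.of k))
  letI : (pullback (C₁ ↘ Spec (CommRingCat.of k)) (C₂ ↘ Spec (CommRingCat.of k))).Over (Spec (CommRingCat.of k)) := ⟨pullback.fst _ _ ≫ (C₁ ↘ Spec (CommRingCat.of k))⟩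
  have hover : (pullback (C₁ ↘ Spec (CommRingCat.of k)) (C₂ ↘ Spec (CommRingCat.of k))) ↘ Spec (CommRingCat.of k) = pullback.fst (C₁ ↘ Spec (CommRingCat.of k)) (C₂ ↘ Spec (CommRingCat.of k)) ≫ (C₁ ↘ Spec (CommRingCat.of k)) := rfl
  haveI : IsProper ((pullback (C₁ ↘ Spec (CommRingCat.of k)) (C₂ ↘ Spec (CommRingCat.of k))) ↘ Spec (CommRingCat.of k)) := by rw [hover]; infer_instance
  haveI : Smooth ((pullback (C₁ ↘ Spec (CommRingCat.of k)) (C₂ ↘ Spec (CommRingCat.of k))) ↘ Spec (CommRingCat.of k)) := by rw [hover]; infer_instance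
  haveI : Smooth (C₁ ↘ Spec (CommRingCat.of k)) := hs1
  haveI : Smooth (C₂ ↘ Spec (CommRingCat.of k)) := hs2
  have hreg := S1535.result k (pullback (C₁ ↘ Spec (CommRingCat.of k)) (C₂ ↘ Spec (CommRingCat.of k)))
  have hreg1 := S1535.result k C₁
  have hreg2 := S1535.result k C₂
  haveI : Subsingleton ↥(Spec (CommRingCat.of k)) :=
    inferInstanceAs (Subsingleton (PrimeSpectrum k))
  have hdim : topologicalKrullDim ↥(pullback (C₁ ↘ Spec (CommRingCat.of k)) (C₂ ↘ Spec (CommRingCat.of k))) = 2 := by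
    rw [FibDim.topologicalKrullDim_pullback, hd1, hd2]
    norm_num
  have hd : topologicalKrullDim ↥(pullback (C₁ ↘ Spec (CommRingCat.of k)) (C₂ ↘ Spec (CommRingCat.of k))) ≤ (2 : ℕ) := hdim.le
  haveI : C₁.IsSeparated := SurfInt.isSeparated_of_proper k
  haveI : C₂.IsSeparated := SurfInt.isSeparated_of_proper k
  haveI : IsClosedImmersion x := by
    haveI : IsClosedImmersion (x ≫ (C₁ ↘ Spec (CommRingCat.of k))) := by rw [hx]; infer_instance
    exact IsClosedImmersion.of_comp x (C₁ ↘ Spec (CommRingCat.of k))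
  haveI : IsClosedImmersion y := by
    haveI : IsClosedImmersion (y ≫ (C₂ ↘ Spec (CommRingCat.of k))) := by rw [hy]; infer_instance
    exact IsClosedImmersion.of_comp y (C₂ ↘ Spec (CommRingCat.of k))
  haveI : IsClosedImmersion i₁ := by
    haveI : IsClosedImmersion (i₁ ≫ pullback.fst (C₁ ↘ Spec (CommRingCat.of k)) (C₂ ↘ Spec (CommRingCat.of k))) := by rw [hi₁.1]; infer_instance
    exact IsClosedImmersion.of_comp i₁ (pullback.fst (C₁ ↘ Spec (CommRingCat.of k)) (C₂ ↘ Spec (CommRingCat.of k)))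
  haveI : IsClosedImmersion i₂ := by
    haveI : IsClosedImmersion (i₂ ≫ pullback.snd (C₁ ↘ Spec (CommRingCat.of k)) (C₂ ↘ Spec (CommRingCat.of k))) := by rw [hi₂.1]; infer_instance
    exact IsClosedImmersion.of_comp i₂ (pullback.snd (C₁ ↘ Spec (CommRingCat.of k)) (C₂ ↘ Spec (CommRingCat.of k)))
  have hxc : IsClosed ({x (IsLocalRing.closedPoint k)} : Set C₁) := by
    rw [← Set.image_singleton]
    exact x.isClosedEmbedding.isClosedMap _ (isClosed_discrete _)
  have hyc : IsClosed ({y (IsLocalRing.closedPoint k)} : Set C₂) := by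
    rw [← Set.image_singleton]
    exact y.isClosedEmbedding.isClosedMap _ (isClosed_discrete _)
  -- the curves are the fibres over the two points
  have hk2 : i₂.ker = (Scheme.IdealSheafData.vanishingIdeal ⟨{x (IsLocalRing.closedPoint k)}, hxc⟩).comap
      (pullback.fst (C₁ ↘ Spec (CommRingCat.of k)) (C₂ ↘ Spec (CommRingCat.of k))) := by
    have h : IsPullback i₂ (C₂ ↘ Spec (CommRingCat.of k)) (pullback.fst (C₁ ↘ Spec (CommRingCat.of k)) (C₂ ↘ Spec (CommRingCat.of k))) x :=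
      IsPullback.of_right (h₁₂ := pullback.snd (C₁ ↘ Spec (CommRingCat.of k)) (C₂ ↘ Spec (CommRingCat.of k))) (h₂₂ := (C₁ ↘ Spec (CommRingCat.of k))) (v₁₃ := (C₂ ↘ Spec (CommRingCat.of k)))
        (by rw [hi₂.1, hx]; exact IsPullback.of_horiz_isIso ⟨by simp⟩) hi₂.2
        (IsPullback.of_hasPullback (C₁ ↘ Spec (CommRingCat.of k)) (C₂ ↘ Spec (CommRingCat.of k))).flip
    rw [← ker_eq_vanishing x hxc, ← Scheme.IdealSheafData.ker_fst_of_isClosedImmersion,
      ← h.isoPullback_hom_fst, Scheme.Hom.ker_comp_of_isIso]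
  have hk1 : i₁.ker = (Scheme.IdealSheafData.vanishingIdeal ⟨{y (IsLocalRing.closedPoint k)}, hyc⟩).comap
      (pullback.snd (C₁ ↘ Spec (CommRingCat.of k)) (C₂ ↘ Spec (CommRingCat.of k))) := by
    have h : IsPullback i₁ (C₁ ↘ Spec (CommRingCat.of k)) (pullback.snd (C₁ ↘ Spec (CommRingCat.of k)) (C₂ ↘ Spec (CommRingCat.of k))) y :=
      IsPullback.of_right (h₁₂ := pullback.fst (C₁ ↘ Spec (CommRingCat.of k)) (C₂ ↘ Spec (CommRingCat.of k))) (h₂₂ := (C₂ ↘ Spec (CommRingCat.of k))) (v₁₃ := (C₁ ↘ Spec (CommRingCat.of k)))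
        (by rw [hi₁.1, hy]; exact IsPullback.of_horiz_isIso ⟨by simp⟩) hi₁.2
        (IsPullback.of_hasPullback (C₁ ↘ Spec (CommRingCat.of k)) (C₂ ↘ Spec (CommRingCat.of k)))
    rw [← ker_eq_vanishing y hyc, ← Scheme.IdealSheafData.ker_fst_of_isClosedImmersion,
      ← h.isoPullback_hom_fst, Scheme.Hom.ker_comp_of_isIso]
  have hov1 : i₁ ≫ ((pullback (C₁ ↘ Spec (CommRingCat.of k)) (C₂ ↘ Spec (CommRingCat.of k))) ↘ Spec (CommRingCat.of k)) = (C₁ ↘ Spec (CommRingCat.of k)) := by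
    rw [hover, ← Category.assoc, hi₁.1, Category.id_comp]
  have hov2 : i₂ ≫ ((pullback (C₁ ↘ Spec (CommRingCat.of k)) (C₂ ↘ Spec (CommRingCat.of k))) ↘ Spec (CommRingCat.of k)) = (C₂ ↘ Spec (CommRingCat.of k)) := by
    rw [hover, ← Category.assoc, hi₂.2, Category.assoc, hx, Category.comp_id]
  obtain ⟨h12, h22⟩ := section_fibre k hdim hreg hd1 hreg1 (pullback.fst (C₁ ↘ Spec (CommRingCat.of k)) (C₂ ↘ Spec (CommRingCat.of k))) rfl i₁ hi₁.1 _ hxc
  obtain ⟨-, h11⟩ := section_fibre k hdim hreg hd2 hreg2 (pullback.snd (C₁ ↘ Spec (CommRingCat.of k)) (C₂ ↘ Spec (CommRingCat.of k)))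
    (by rw [hover, pullback.condition]) i₂ hi₂.1 _ hyc
  rw [← hk2] at h12 h22
  rw [← hk1] at h11
  haveI := CurveCohLib.isNoetherian_of_proper (k := k) (X := (pullback (C₁ ↘ Spec (CommRingCat.of k)) (C₂ ↘ Spec (CommRingCat.of k))))
  haveI := SurfInt.isIntegral_ker i₁
  haveI := SurfInt.isIntegral_ker i₂
  have hF := SurfInt.isInvertible_idealMod
    (SurfInt.isEffCartier_curve k hdim hreg i₁.ker (by rw [SurfInt.dim_support_ker, hd1]))
  have hG := SurfInt.isInvertible_idealMod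
    (SurfInt.isEffCartier_curve k hdim hreg i₂.ker (by rw [SurfInt.dim_support_ker, hd2]))
  obtain ⟨H, hH⟩ := SurfInt.exists_isAmple k hdim hreg
  obtain ⟨r1, r2⟩ := ortho_ineq k hdim hH hF hG h11 h22 h12 hL hL'
  obtain ⟨e⟩ := hM
  obtain ⟨e'⟩ := hM'
  have hMi := SurfInt.isInvertible_of_tensor_iso hL e
  have hM'i := SurfInt.isInvertible_of_tensor_iso hL' e'
  rw [SurfInt.intNum_eq_pair k hd hMi hMi, SurfInt.intNum_eq_pair k hd hMi hM'i,
    SurfInt.intNum_eq_pair k hd hM'i hM'i, SurfInt.pair_inverse_both k hd hL hMi hL hMi e e,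
    SurfInt.pair_inverse_both k hd hL hMi hL' hM'i e e',
    SurfInt.pair_inverse_both k hd hL' hM'i hL' hM'i e' e']
  simp only [SurfInt.pair_comm k L (ClSub.idealMod i₁.ker), SurfInt.pair_comm k L (ClSub.idealMod i₂.ker),
    SurfInt.pair_comm k L' (ClSub.idealMod i₁.ker), SurfInt.pair_comm k L' (ClSub.idealMod i₂.ker),
    pair_ker_left k i₁ hov1 hL, pair_ker_left k i₂ hov2 hL, pair_ker_left k i₁ hov1 hL',
    pair_ker_left k i₂ hov2 hL'] at r1 r2
  refine ⟨by linarith, ?_⟩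
  convert r2 using 2 <;> ring

end Groth.Agent.ZH85.SurfProd
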