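import Groth.Agent.SurfInt.Nef
import Groth.Agent.SurfInt.Positivity
import Groth.Agent.SurfInt.AffineBoundary
import Groth.Agent.SurfInt.Curve
import Groth.Agent.SurfInt.InterCM
import Groth.Agent.LC.GorRows
import Groth.Agent.LC.GorHull
import Groth.Agent.Lib.CurvePoint
import Groth.Agent.CurveCohLib.RegularCurve
import Groth.Agent.S8914
import Groth.Agent.S1582
import Groth.Agent.S1535
import Groth.Agent.FibDim.BaseField

/-!
# The intersection pairing on a surface with two fibrations

The Hodge index theorem bounds the pairing on the orthogonal complement of two fibre classes.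
-/

set_option autoImplicit false
set_option backward.isDefEq.respectTransparency false
set_option backward.isDefEq.respectTransparency.types false
set_option linter.style.haveILetI false
set_option linter.unusedSectionVars false
attribute [-instance] CategoryTheory.catToReflQuiver

universe u

open CategoryTheory CategoryTheory.Limits AlgebraicGeometry TopologicalSpace

noncomputable section

namespace Groth.Agent.ZH85.SurfProd

open Groth.Agent

variable {X : Scheme.{u}} (k : Type u) [Field k] [X.Over (Spec (CommRingCat.of k))]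
  [IsProper (X ↘ Spec (CommRingCat.of k))] [IsIntegral X]

/-- Integral multiples of an invertible module. -/
theorem exists_zsmul (hdim : topologicalKrullDim X ≤ (2 : ℕ)) {A : X.Modules} (hA : PicF.IsInvertible A) (n : ℤ) :
    ∃ B : X.Modules, PicF.IsInvertible B ∧
      ∀ Q : X.Modules, PicF.IsInvertible Q → SurfInt.pair k B Q = n * SurfInt.pair k A Q := by
  obtain ⟨A', hA', ⟨e⟩⟩ := H23.PicInv.exists_inverse hA
  obtain ⟨m, rfl | rfl⟩ := n.eq_nat_or_neg
  · exact ⟨_, InvX.isInvertible_tensorPow hA m, fun Q hQ => SurfInt.pair_tensorPow_left k hdim hA hQ m⟩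
  · refine ⟨_, InvX.isInvertible_tensorPow hA' m, fun Q hQ => ?_⟩
    rw [SurfInt.pair_tensorPow_left k hdim hA' hQ m, SurfInt.pair_inverse_left k hdim hA hA' hQ e]
    ring

/-- Integral combinations of two invertible modules. -/
theorem exists_comb (hdim : topologicalKrullDim X ≤ (2 : ℕ)) {A A' : X.Modules} (hA : PicF.IsInvertible A)
    (hA' : PicF.IsInvertible A') (m n : ℤ) :
    ∃ B : X.Modules, PicF.IsInvertible B ∧ ∀ Q : X.Modules, PicF.IsInvertible Q →
      SurfInt.pair k B Q = m * SurfInt.pair k A Q + n * SurfInt.pair k A' Q := by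
  obtain ⟨B, hB, h⟩ := exists_zsmul k hdim hA m
  obtain ⟨B', hB', h'⟩ := exists_zsmul k hdim hA' n
  exact ⟨_, InvX.isInvertible_tensorMod hB hB', fun Q hQ => by
    rw [SurfInt.pair_tensor_left k hdim hB hB' hQ, h Q hQ, h' Q hQ]⟩

/-- **Two fibrations.** If `F² = G² = 0` and `F·G = 1` on a surface with an ample module, the pairing is
negative semidefinite on the orthogonal complement of `F` and `G`. -/
theorem ortho_ineq (hdim : topologicalKrullDim X = 2) {H F G L L' : X.Modules} (hH : CohB1.IsAmple H)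
    (hF : PicF.IsInvertible F) (hG : PicF.IsInvertible G) (hFF : SurfInt.pair k F F = 0)
    (hGG : SurfInt.pair k G G = 0) (hFG : SurfInt.pair k F G = 1)
    (hL : PicF.IsInvertible L) (hL' : PicF.IsInvertible L') :
    SurfInt.pair k L L ≤ 2 * SurfInt.pair k L F * SurfInt.pair k L G ∧
      (SurfInt.pair k L L' - SurfInt.pair k L F * SurfInt.pair k L' G
          - SurfInt.pair k L G * SurfInt.pair k L' F) ^ 2 ≤
        (2 * SurfInt.pair k L F * SurfInt.pair k L G - SurfInt.pair k L L) *
          (2 * SurfInt.pair k L' F * SurfInt.pair k L' G - SurfInt.pair k L' L') := by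
  have hd : topologicalKrullDim X ≤ (2 : ℕ) := hdim.le
  have hA := InvX.isInvertible_tensorMod hF hG
  have hGF : SurfInt.pair k G F = 1 := by rw [SurfInt.pair_comm, hFG]
  have hAA : 0 < SurfInt.pair k (CohB1.tensorMod F G) (CohB1.tensorMod F G) := by
    rw [SurfInt.pair_tensor_left k hd hF hG hA, SurfInt.pair_tensor_right k hd hF hF hG,
      SurfInt.pair_tensor_right k hd hG hF hG, hFF, hGG, hFG, hGF]
    norm_num
  -- projection to the orthogonal complement
  have proj : ∀ M : X.Modules, PicF.IsInvertible M → ∃ Z : X.Modules, PicF.IsInvertible Z ∧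
      SurfInt.pair k Z F = 0 ∧ SurfInt.pair k Z G = 0 ∧ ∀ Q : X.Modules, PicF.IsInvertible Q →
        SurfInt.pair k Z Q = SurfInt.pair k M Q - SurfInt.pair k M G * SurfInt.pair k F Q
          - SurfInt.pair k M F * SurfInt.pair k G Q := by
    intro M hM
    obtain ⟨B, hB, h⟩ := exists_comb k hd hF hG (-SurfInt.pair k M G) (-SurfInt.pair k M F)
    have hZ : ∀ Q : X.Modules, PicF.IsInvertible Q → SurfInt.pair k (CohB1.tensorMod M B) Q =
        SurfInt.pair k M Q - SurfInt.pair k M G * SurfInt.pair k F Q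
          - SurfInt.pair k M F * SurfInt.pair k G Q := fun Q hQ => by
      rw [SurfInt.pair_tensor_left k hd hM hB hQ, h Q hQ]
      ring
    refine ⟨_, InvX.isInvertible_tensorMod hM hB, ?_, ?_, hZ⟩
    · rw [hZ F hF, hFF, hGF]; ring
    · rw [hZ G hG, hFG, hGG]; ring
  -- negativity on the complement
  have neg : ∀ Z : X.Modules, PicF.IsInvertible Z → SurfInt.pair k Z F = 0 → SurfInt.pair k Z G = 0 →
      SurfInt.pair k Z Z ≤ 0 := fun Z hZ h1 h2 =>
    SurfInt.hodge_index k hd hH hA hZ hAA (by
      rw [SurfInt.pair_tensor_left k hd hF hG hZ, SurfInt.pair_comm k F Z, SurfInt.pair_comm k G Z, h1, h2]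
      ring)
  obtain ⟨Z, hZ, hZF, hZG, hZQ⟩ := proj L hL
  obtain ⟨Z', hZ', hZ'F, hZ'G, hZ'Q⟩ := proj L' hL'
  have e1 : SurfInt.pair k Z Z = SurfInt.pair k L L - 2 * SurfInt.pair k L F * SurfInt.pair k L G := by
    rw [hZQ Z hZ, SurfInt.pair_comm k F Z, SurfInt.pair_comm k G Z, hZF, hZG, SurfInt.pair_comm k L Z,
      hZQ L hL, SurfInt.pair_comm k F L, SurfInt.pair_comm k G L]
    ring
  have e2 : SurfInt.pair k Z' Z' = SurfInt.pair k L' L' - 2 * SurfInt.pair k L' F * SurfInt.pair k L' G := by
    rw [hZ'Q Z' hZ', SurfInt.pair_comm k F Z', SurfInt.pair_comm k G Z', hZ'F, hZ'G, SurfInt.pair_comm k L' Z',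
      hZ'Q L' hL', SurfInt.pair_comm k F L', SurfInt.pair_comm k G L']
    ring
  have e3 : SurfInt.pair k Z Z' = SurfInt.pair k L L' - SurfInt.pair k L F * SurfInt.pair k L' G
      - SurfInt.pair k L G * SurfInt.pair k L' F := by
    rw [hZQ Z' hZ', SurfInt.pair_comm k F Z', SurfInt.pair_comm k G Z', hZ'F, hZ'G, SurfInt.pair_comm k L Z',
      hZ'Q L hL, SurfInt.pair_comm k F L, SurfInt.pair_comm k G L, SurfInt.pair_comm k L' L]
    ring
  refine ⟨by linarith [neg Z hZ hZF hZG], ?_⟩
  have quad : ∀ m n : ℤ, m ^ 2 * SurfInt.pair k Z Z + 2 * m * n * SurfInt.pair k Z Z'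
      + n ^ 2 * SurfInt.pair k Z' Z' ≤ 0 := by
    intro m n
    obtain ⟨W, hW, hWQ⟩ := exists_comb k hd hZ hZ' m n
    have h := neg W hW (by rw [hWQ F hF, hZF, hZ'F]; ring) (by rw [hWQ G hG, hZG, hZ'G]; ring)
    rw [hWQ W hW, SurfInt.pair_comm k Z W, SurfInt.pair_comm k Z' W, hWQ Z hZ, hWQ Z' hZ',
      SurfInt.pair_comm k Z' Z] at h
    linarith
  rw [← e3, show (2 * SurfInt.pair k L F * SurfInt.pair k L G - SurfInt.pair k L L) *
      (2 * SurfInt.pair k L' F * SurfInt.pair k L' G - SurfInt.pair k L' L') =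
      SurfInt.pair k Z Z * SurfInt.pair k Z' Z' by rw [e1, e2]; ring]
  rcases (neg Z' hZ' hZ'F hZ'G).lt_or_eq with h | h
  · nlinarith [quad (SurfInt.pair k Z' Z') (-SurfInt.pair k Z Z')]
  · have h1 := quad 1 (-SurfInt.pair k Z Z * SurfInt.pair k Z Z' + SurfInt.pair k Z Z')
    by_contra hne
    rw [h, mul_zero, not_le] at hne
    have hr : SurfInt.pair k Z Z' ≠ 0 := fun h0 => by simp [h0] at hne
    rw [h] at h1
    have hr2 : 1 ≤ SurfInt.pair k Z Z' ^ 2 := by
      have := sq_pos_of_ne_zero hr
      omega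
    nlinarith [neg Z hZ hZF hZG]

/-- The pairing with the ideal of a curve is minus the degree on it. -/
theorem pair_ker_left {C : Scheme.{u}} [C.Over (Spec (CommRingCat.of k))] (i : C ⟶ X) [IsClosedImmersion i]
    (hi : i ≫ (X ↘ Spec (CommRingCat.of k)) = C ↘ Spec (CommRingCat.of k)) {B : X.Modules}
    (hB : PicF.IsInvertible B) :
    SurfInt.pair k (ClSub.idealMod i.ker) B = - Curv2.deg k C ((Scheme.Modules.pullback i).obj B) 1 := by
  haveI := CurveCohLib.isNoetherian_of_proper (k := k) (X := X)
  obtain ⟨e⟩ := SurfInt.nonempty_quotMod_ker i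
  rw [SurfInt.pair_ideal_left k _ hB]
  unfold SurfInt.curveDeg Curv2.deg
  rw [SurfInt.euler_congr k (SurfInt.tMapL e B), SurfInt.euler_congr k e,
    SurfInt.euler_quot_tensor k i hi (AmpleVan.isCoh_invertible hB).1,
    SurfInt.euler_push k i hi QCoh.isQCoh_structureModule]
  simp

/-- A section meets the fibre once; fibres have square zero. -/
theorem section_fibre [IsAlgClosed k] (hdim : topologicalKrullDim X = 2)
    (hreg : ∀ x : X, IsRegularLocalRing (X.presheaf.stalk x))
    {C : Scheme.{u}} [C.Over (Spec (CommRingCat.of k))]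
    [IsIntegral C] [IsProper (C ↘ (Spec (CommRingCat.of k)))] (hdimC : topologicalKrullDim C = 1)
    (hregC : ∀ x : C, IsRegularLocalRing (C.presheaf.stalk x))
    (π : X ⟶ C) (hπ : π ≫ (C ↘ (Spec (CommRingCat.of k))) = (X ↘ (Spec (CommRingCat.of k))))
    (σ : C ⟶ X) [IsClosedImmersion σ] (hσ : σ ≫ π = 𝟙 C) (y : C) (hy : IsClosed ({y} : Set C)) :
    SurfInt.pair k (ClSub.idealMod σ.ker)
        (ClSub.idealMod ((Scheme.IdealSheafData.vanishingIdeal ⟨{y}, hy⟩).comap π)) = 1 ∧
      SurfInt.pair k (ClSub.idealMod ((Scheme.IdealSheafData.vanishingIdeal ⟨{y}, hy⟩).comap π))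
        (ClSub.idealMod ((Scheme.IdealSheafData.vanishingIdeal ⟨{y}, hy⟩).comap π)) = 0 := by
  haveI := CurveCohLib.isNoetherian_of_proper (k := k) (X := X)
  haveI := CurveCohLib.isNoetherian_of_proper (k := k) (X := C)
  haveI := CurveCohLib.RegularCurve.smooth_of_regular k (X := C) fun x _ => hregC x
  haveI : C.IsSeparated := SurfInt.isSeparated_of_proper k
  haveI := CurveCohLib.RegularCurve.smooth_of_regular k (X := X) fun x _ => hreg x
  set Iy : C.IdealSheafData := Scheme.IdealSheafData.vanishingIdeal ⟨{y}, hy⟩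
  set IF := Iy.comap π
  have hIy : BlowUp.IsEffCartierIdeal Iy := (S8914.result Iy).1 (CurvePoint.isInvertible_ptMod y hy k hdimC)
  have hygen : y ≠ genericPoint C := fun h => by
    have h1 : topologicalKrullDim ↥(closure ({genericPoint C} : Set C)) = 1 := by
      rw [genericPoint_closure]
      exact ((Homeomorph.Set.univ C).isHomeomorph.topologicalKrullDim_eq).trans hdimC
    rw [← h, hy.closure_eq] at h1
    exact absurd (h1.ge.trans (SurfInt.dim_singleton_le_zero y)) (by decide)
  have hπgen : π (genericPoint X) = genericPoint C := by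
    refine ((genericPoint_spec (C : Type u)).specializes (Set.mem_univ _)).antisymm ?_ |>.eq.symm
    have hx : π (σ (genericPoint C)) = genericPoint C := by
      rw [← Scheme.Hom.comp_apply, hσ]
      rfl
    rw [← hx]
    exact ((genericPoint_spec (X : Type u)).specializes (Set.mem_univ _)).map π.continuous
  have hIF : BlowUp.IsEffCartierIdeal IF := by
    refine SurfInt.isEffCartier_of_locPrincipal ((ModPairLib.isLocPrincipal_of_isEffCartier hIy).comap π) fun h => hygen ?_
    rw [Scheme.IdealSheafData.support_comap] at h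
    have h' : π (genericPoint X) ∈ (Iy.support : Set C) := h
    rw [Scheme.IdealSheafData.coe_support_vanishingIdeal, hπgen] at h'
    exact (Set.mem_singleton_iff.1 h').symm
  haveI := SurfInt.isIntegral_ker σ
  have hC0 : BlowUp.IsEffCartierIdeal σ.ker :=
    SurfInt.isEffCartier_curve k hdim hreg σ.ker (by rw [SurfInt.dim_support_ker, hdimC])
  have hIFi := SurfInt.isInvertible_idealMod hIF
  refine ⟨?_, ?_⟩
  · have hp : IsClosed ({σ y} : Set X) := by
      rw [← Set.image_singleton]
      exact σ.isClosedEmbedding.isClosedMap _ hy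
    have hmap : Iy.map σ = CurvePoint.ptIdeal (σ y) hp := by
      rw [Scheme.IdealSheafData.map_vanishingIdeal]
      congr 1
      ext1
      show closure (σ '' {y}) = {σ y}
      rw [Set.image_singleton, hp.closure_eq]
    have hsup : σ.ker ⊔ IF = CurvePoint.ptIdeal (σ y) hp := by
      rw [← hmap]
      refine le_antisymm (sup_le ?_ ?_) ?_
      · rw [← Scheme.IdealSheafData.map_bot σ]
        exact (Scheme.IdealSheafData.map_gc (f := σ)).monotone_u bot_le
      · rw [Scheme.IdealSheafData.le_map_iff_comap_le, ← Scheme.IdealSheafData.comap_comp, hσ,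
          Scheme.IdealSheafData.comap_id]
      · set Z := σ.ker ⊔ IF
        let ι := Z.subschemeι
        have hker : ι.ker = Z := Scheme.IdealSheafData.ker_subschemeι Z
        obtain ⟨j, hj⟩ : ∃ j, j ≫ σ = ι :=
          ⟨IsClosedImmersion.lift σ ι (hker.symm ▸ le_sup_left), IsClosedImmersion.lift_fac _ _ _⟩
        have hj' : j = ι ≫ π := by rw [← hj, Category.assoc, hσ, Category.comp_id]
        have hle : Iy ≤ j.ker := by
          rw [hj', Scheme.Hom.ker_comp, Scheme.IdealSheafData.le_map_iff_comap_le, hker]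
          exact le_sup_right
        calc Iy.map σ ≤ j.ker.map σ := (Scheme.IdealSheafData.map_gc (f := σ)).monotone_u hle
          _ = ι.ker := by rw [← Scheme.Hom.ker_comp, hj]
          _ = Z := hker
    have h := SurfInt.pair_eq_h0_of_cohenMacaulay k (fun Z hZ => ?_) (fun x => ?_) hC0 hIF ?_
    · rw [h, hsup, ← CurveCohLib.euler_eq_finrank_zero (CurvePoint.isCoh_quot (σ y) hp k)
        (CurvePoint.closed_support (σ y) hp), CurvePoint.euler_quot (σ y) hp k]
    · rw [irreducibleComponents_eq_singleton, Set.mem_singleton_iff] at hZ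
      subst hZ
      exact ((Homeomorph.Set.univ X).isHomeomorph.topologicalKrullDim_eq).trans hdim
    · haveI := hreg x
      haveI := LC.gorenstein_of_isRegularLocalRing (R := X.presheaf.stalk x)
      exact LC.isCohenMacaulayLocalRing_of_gorenstein
    · rw [hsup]
      exact Set.finite_singleton _
  · rw [SurfInt.pair_ideal_left k _ hIFi, neg_eq_zero]
    obtain ⟨U, hyU, t, -, ht⟩ := hIy y
    refine SurfInt.curveDeg_idealMod_eq_zero_of_principal_near k IF hIF (V := π ⁻¹ᵁ U.1) (π.app U.1 t)
      (fun x hx => ?_) fun W hW => ?_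
    · rw [SetLike.mem_coe, Scheme.IdealSheafData.support_comap] at hx
      have hx' : π x ∈ (Iy.support : Set C) := hx
      rw [Scheme.IdealSheafData.coe_support_vanishingIdeal] at hx'
      show π x ∈ U.1
      rw [Set.mem_singleton_iff.1 hx']
      exact hyU
    · rw [ModPairLib.ideal_comap _ π U W hW, ht, Ideal.map_span, Set.image_singleton]
      rfl

end Groth.Agent.ZH85.SurfProd
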